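import Groth.Agent.ProjRecLib.Glue
import Groth.Agent.TwistLib.CoordGen
import Groth.Agent.FibVALib.Geo

/-!
# A family locally isomorphic to projective space with a twisting module is a projective bundle
-/

set_option autoImplicit false
set_option linter.style.haveILetI false
set_option linter.unusedSectionVars false
set_option maxHeartbeats 1000000

universe u

open AlgebraicGeometry CategoryTheory CategoryTheory.Limits Opposite TopologicalSpace
open AmpleLib (res GenAt)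
open KFlatLib (pb puSec)
open ProjBunLib (Pt)

noncomputable section

namespace ProjRecLib

variable {B C D D' : Scheme.{u}} {E : B.Modules}

theorem UnivOn.of_iso {U : B.Opens} {P : Pt E D} (a : D' ⟶ D) [IsIso a] (h : UnivOn (P.map a) U) : UnivOn P U := by
  intro T Q hQ
  obtain ⟨k, hk, huk⟩ := h T Q hQ
  refine ⟨k ≫ a, (Pt.map_comp_rel k a P).symm.trans hk, fun k' hk' => ?_⟩
  have h1 : k' ≫ inv a = k := huk _ ((Pt.map_comp_rel _ a P).trans (by
    rw [Category.assoc, IsIso.inv_hom_id, Category.comp_id]; exact hk'))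
  rw [← h1, Category.assoc, IsIso.inv_hom_id, Category.comp_id]

variable (f : C ⟶ B) (L : C.Modules)

/-- The evaluation from the direct image. -/
abbrev evalMap : pb f ((Scheme.Modules.pushforward f).obj L) ⟶ L :=
  (Scheme.Modules.pullbackPushforwardAdjunction f).counit.app L

theorem evalMap_puSec {U : B.Opens} (m : Γ((Scheme.Modules.pushforward f).obj L, U)) :
    (evalMap f L).app (f ⁻¹ᵁ U) (puSec f m) = (show Γ(L, f ⁻¹ᵁ U) from m) :=
  congr($((Scheme.Modules.pullbackPushforwardAdjunction f).right_triangle_components L).app U m)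

variable {f L} [QuasiCompact f] [QuasiSeparated f]

/-- A chart: an affine open over which the family is projective space, the module the twisting module. -/
theorem exists_univOn_of_chart (hL : PicF.IsInvertible L) {n : ℕ} {R : Type u} [CommRing R]
    (i : Spec (CommRingCat.of R) ⟶ B) [IsOpenImmersion i]
    (e : pullback f i ≅ CohB1.ProjSpace n R) (he : e.hom ≫ CohB1.ProjSpace.toSpec n R = pullback.snd f i)
    (τ : pb e.hom (Twist.twistProjSpace n R 1) ≅ pb (pullback.fst f i) L) :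
    ∃ (φ : ((Scheme.Modules.pushforward f).obj L).restrict i.opensRange.ι ≅ FlatMod.freeMod (↑i.opensRange) (n + 1)),
      (∀ z : C, ∀ hz : f z ∈ i.opensRange, ∃ j, GenAt L ((evalMap f L).app (f ⁻¹ᵁ i.opensRange)
        (puSec f (CycPBLib.bas φ j))) (show z ∈ f ⁻¹ᵁ i.opensRange from hz)) ∧
      ∀ [Epi (evalMap f L)],
        UnivOn ((⟨f, L, hL, evalMap f L, inferInstance⟩ : Pt _ C).map (f ⁻¹ᵁ i.opensRange).ι) i.opensRange := by
  classical
  let U := i.opensRange
  let a : pullback f i ⟶ C := pullback.fst f i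
  let O1 := Twist.twistProjSpace n R 1
  have hU : IsAffineOpen U := isAffineOpen_opensRange i
  haveI : Coh.IsQCoh L := TwistLib.isQCoh_of_isInvertible hL
  haveI : Coh.IsQCoh ((Scheme.Modules.pushforward f).obj L) := QCohLib.isQCoh_pushforward f L
  have harange : f ⁻¹ᵁ U ≤ a.opensRange := fun x hx => by
    show x ∈ Set.range a
    rw [Scheme.Pullback.range_fst]
    exact hx
  have hatop : (⊤ : (pullback f i).Opens) ≤ a ⁻¹ᵁ (f ⁻¹ᵁ U) := fun x _ => by
    show (a ≫ f) x ∈ Set.range i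
    rw [show a ≫ f = pullback.snd f i ≫ i from pullback.condition]
    exact ⟨_, rfl⟩
  let σ : Γ(L, f ⁻¹ᵁ U) → Γ(pb a L, a ⁻¹ᵁ (f ⁻¹ᵁ U)) := fun m => puSec a m
  have hσ : Function.Bijective σ := ProjBunLib.puSec_bijective a L harange
  have hσsum : ∀ (s : Finset (Fin (n + 1))) (m : Fin (n + 1) → Γ(L, f ⁻¹ᵁ U)), σ (∑ j ∈ s, m j) = ∑ j ∈ s, σ (m j) :=
    fun s m => map_sum (((Scheme.Modules.pullbackPushforwardAdjunction a).unit.app L).app (f ⁻¹ᵁ U)).hom m s
  let θ : Γ(O1, ⊤) → Γ(pb a L, a ⁻¹ᵁ (f ⁻¹ᵁ U)) := fun t => res _ le_top (τ.hom.app ⊤ (puSec e.hom t))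
  have hθ : Function.Bijective θ := by
    have h1 : Function.Bijective fun t : Γ(O1, ⊤) => (puSec e.hom t : Γ(pb e.hom O1, e.hom ⁻¹ᵁ ⊤)) :=
      ProjBunLib.puSec_bijective e.hom O1 (fun x _ => ⟨e.inv x, by rw [← Scheme.Hom.comp_apply, e.inv_hom_id]; rfl⟩)
    have h2 : Function.Bijective fun x : Γ(pb e.hom O1, ⊤) => τ.hom.app ⊤ x :=
      ⟨fun x y hxy => (congr($(τ.hom_inv_id).app ⊤ x)).symm.trans
        ((congrArg (τ.inv.app ⊤) hxy).trans congr($(τ.hom_inv_id).app ⊤ y)),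
        fun y => ⟨τ.inv.app ⊤ y, congr($(τ.inv_hom_id).app ⊤ y)⟩⟩
    have h3 : Function.Bijective fun x : Γ(pb a L, ⊤) => res (pb a L) (le_top : a ⁻¹ᵁ (f ⁻¹ᵁ U) ≤ ⊤) x :=
      ⟨fun x y hxy => by
        have h := congrArg (res (pb a L) hatop) hxy
        simpa [AmpleLib.res_res, AmpleLib.res_refl] using h,
        fun y => ⟨res (pb a L) hatop y, by simp [AmpleLib.res_res, AmpleLib.res_refl]⟩⟩
    exact (h3.comp h2).comp h1
  have hθsum : ∀ (s : Finset (Fin (n + 1))) (m : Fin (n + 1) → Γ(O1, ⊤)), θ (∑ j ∈ s, m j) = ∑ j ∈ s, θ (m j) :=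
    fun s m => by
      show res _ _ (τ.hom.app ⊤ (puSec e.hom (∑ j ∈ s, m j))) = _
      rw [show puSec e.hom (∑ j ∈ s, m j) = ∑ j ∈ s, puSec e.hom (m j) from
        map_sum (((Scheme.Modules.pullbackPushforwardAdjunction e.hom).unit.app O1).app ⊤).hom m s]
      refine (congrArg _ (map_sum (τ.hom.app ⊤).hom _ s)).trans ?_
      exact map_sum ((pb a L).presheaf.map (homOfLE le_top).op).hom _ s
  -- the scalars
  have hiU : (⊤ : (Spec (CommRingCat.of R)).Opens) ≤ i ⁻¹ᵁ U := fun x _ => ⟨x, rfl⟩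
  let ψ : Γ(B, U) → R := fun r => (Scheme.ΓSpecIso (CommRingCat.of R)).hom (i.appLE U ⊤ hiU r)
  have hψb : Function.Bijective ψ := by
    haveI : IsIso (i.app U) := Scheme.Hom.isIso_app i U le_rfl
    refine (ConcreteCategory.bijective_of_isIso (Scheme.ΓSpecIso (CommRingCat.of R)).hom).comp ?_
    haveI : IsIso ((Spec (CommRingCat.of R)).presheaf.map (homOfLE hiU).op) := by
      rw [show homOfLE hiU = eqToHom (le_antisymm hiU le_top) from rfl, eqToHom_op]
      exact (inferInstance : IsIso ((Spec (CommRingCat.of R)).presheaf.map (eqToHom _)))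
    exact ConcreteCategory.bijective_of_isIso (i.app U ≫ (Spec (CommRingCat.of R)).presheaf.map (homOfLE hiU).op)
  have hlin : ∀ (r : Γ(B, U)) (t : Γ(O1, ⊤)),
      θ (scal n (ψ r) • t) = (a.app (f ⁻¹ᵁ U) (f.app U r)) • θ t := by
    intro r t
    have hs : (e.hom.app ⊤ (scal n (ψ r)) : Γ(pullback f i, e.hom ⁻¹ᵁ ⊤)) =
        (pullback.snd f i).app ⊤ (i.appLE U ⊤ hiU r) := by
      have h1 : ∀ x : Γ(Spec (CommRingCat.of R), ⊤),
          Coh.toGlobal (CohB1.ProjSpace.toSpec n R) ((Scheme.ΓSpecIso (CommRingCat.of R)).hom x) =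
            (CohB1.ProjSpace.toSpec n R).appTop x := fun x => by
        show (CohB1.ProjSpace.toSpec n R).appTop
          ((Scheme.ΓSpecIso (CommRingCat.of R)).inv ((Scheme.ΓSpecIso (CommRingCat.of R)).hom x)) = _
        exact congrArg _ (congr($((Scheme.ΓSpecIso (CommRingCat.of R)).hom_inv_id) x))
      show e.hom.app ⊤ (Coh.toGlobal (CohB1.ProjSpace.toSpec n R) (ψ r)) = _
      rw [h1]
      show (e.hom ≫ CohB1.ProjSpace.toSpec n R).app ⊤ _ = _
      rw [he]
    show res _ _ (τ.hom.app ⊤ (puSec e.hom (scal n (ψ r) • t))) = _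
    rw [TwistLib.puSec_smul, hs]
    refine (congrArg _ (QCohLib.app_smul τ.hom ⊤ _ _)).trans ?_
    rw [AmpleLib.res_smul]
    congr 1
    have hc : ∀ (g₁ g₂ : pullback f i ⟶ B), g₁ = g₂ → ∀ (V : (pullback f i).Opens) (h1 : V ≤ g₁ ⁻¹ᵁ U)
        (h2 : V ≤ g₂ ⁻¹ᵁ U), g₁.appLE U V h1 r = g₂.appLE U V h2 r := by rintro g₁ _ rfl V h1 h2; rfl
    refine Eq.trans ?_ ((hc (pullback.snd f i ≫ i) (a ≫ f) pullback.condition.symm (a ⁻¹ᵁ (f ⁻¹ᵁ U))
      (fun x _ => ⟨_, rfl⟩) le_rfl).trans ?_)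
    · rw [← Scheme.Hom.appLE_comp_appLE (pullback.snd f i) i U ⊤ (a ⁻¹ᵁ (f ⁻¹ᵁ U)) hiU le_top]
      rfl
    · show (a ≫ f).appLE U ((a ≫ f) ⁻¹ᵁ U) le_rfl r = _
      rw [Scheme.Hom.appLE_eq_app]
      rfl
  have hσlin : ∀ (r : Γ(B, U)) (m : Γ(L, f ⁻¹ᵁ U)), σ (f.app U r • m) = a.app (f ⁻¹ᵁ U) (f.app U r) • σ m :=
    fun r m => TwistLib.puSec_smul a _ _
  choose m hm using fun j => hσ.2 (θ (ProjUP.coord n R j))
  let E' := (Scheme.Modules.pushforward f).obj L
  let m' : Fin (n + 1) → Γ(E', U) := fun j => m j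
  have hcomb : ∀ c : Fin (n + 1) → Γ(B, U), σ (show Γ(L, f ⁻¹ᵁ U) from ∑ j, c j • m' j) =
      θ (∑ j, scal n (ψ (c j)) • (show Γ(O1, ⊤) from ProjUP.coord n R j)) := fun c => by
    rw [hθsum]
    refine (hσsum _ (fun j => f.app U (c j) • m j)).trans (Finset.sum_congr rfl fun j _ => ?_)
    rw [hσlin, hlin, hm]
  let b : Module.Basis (Fin (n + 1)) Γ(B, U) Γ(E', U) := Module.Basis.mk (v := m')
    (Fintype.linearIndependent_iff.2 fun c hc j => by
      have h1 := (hcomb c).symm.trans (congrArg (fun x : Γ(E', U) => σ x) hc)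
      have h0 : θ 0 = (0 : Γ(pb a L, a ⁻¹ᵁ (f ⁻¹ᵁ U))) := by simpa using hθsum ∅ fun _ => 0
      have h2 : σ (0 : Γ(L, f ⁻¹ᵁ U)) = 0 := ProjBunLib.puSec_zero a L
      have h3 := congrFun (coord_free.2 (fun j => ψ (c j)) (hθ.1 ((h1.trans h2).trans h0.symm))) j
      refine hψb.1 (h3.trans ?_)
      show (0 : R) = (Scheme.ΓSpecIso (CommRingCat.of R)).hom (i.appLE U ⊤ hiU 0)
      rw [map_zero, map_zero])
    fun x _ => by
      obtain ⟨t, ht⟩ := hθ.2 (σ (show Γ(L, f ⁻¹ᵁ U) from x))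
      obtain ⟨c, rfl⟩ := coord_free.1 t
      choose d hd using fun j => hψb.2 (c j)
      have : x = ∑ j, d j • m' j := by
        refine hσ.1 (Eq.trans ?_ (hcomb d).symm)
        rw [← ht]
        simp only [hd]
      rw [this]
      exact Submodule.sum_mem _ fun j _ => Submodule.smul_mem _ _ (Submodule.subset_span ⟨j, rfl⟩)
  obtain ⟨φ, hφ⟩ := exists_frame hU E' b
  have hval : ∀ j, (evalMap f L).app (f ⁻¹ᵁ U) (puSec f (CycPBLib.bas φ j)) = m j := fun j => by
    rw [hφ, evalMap_puSec]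
    exact (Module.Basis.mk_apply _ _ j : b j = m' j)
  refine ⟨φ, fun z hz => ?_, ?_⟩
  · obtain ⟨w, rfl⟩ : z ∈ a.opensRange := harange hz
    obtain ⟨j, hj⟩ := TwistLib.exists_genAt_coord n R e.hom w
    refine ⟨j, ?_⟩
    rw [hval]
    refine (CycPBLib.genAt_puSec_iff' a hL (m j) (x := w) hz).1 ?_
    show GenAt (pb a L) (σ (m j)) _
    rw [hm]
    refine (AmpleLib.genAt_res le_top _ _).2 ?_
    exact (TwistLib.genAt_app_iso τ (W := ⊤) (show Γ(pb e.hom O1, ⊤) from ProjUP.pullSec e.hom O1 (ProjUP.coord n R j)) trivial).2 hj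
  · intro hepi
    let P0 : Pt E' C := ⟨f, L, hL, evalMap f L, hepi⟩
    let a' : pullback f i ⟶ (f ⁻¹ᵁ U).toScheme := IsOpenImmersion.lift (f ⁻¹ᵁ U).ι a (by
      rintro _ ⟨x, rfl⟩
      rw [Scheme.Opens.range_ι]
      exact hatop (show x ∈ (⊤ : (pullback f i).Opens) from trivial))
    have ha' : a' ≫ (f ⁻¹ᵁ U).ι = a := IsOpenImmersion.lift_fac _ _ _
    haveI : IsIso a' := by
      haveI : IsOpenImmersion (a' ≫ (f ⁻¹ᵁ U).ι) := by rw [ha']; infer_instance
      haveI : IsOpenImmersion a' := IsOpenImmersion.of_comp a' (f ⁻¹ᵁ U).ι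
      haveI : Surjective a' := ⟨fun z => by
        obtain ⟨w, hw⟩ := harange z.2
        refine ⟨w, (f ⁻¹ᵁ U).ι.isOpenEmbedding.injective ?_⟩
        rw [← Scheme.Hom.comp_apply, ha']
        exact hw⟩
      exact (isIso_iff_isOpenImmersion_and_surjective a').2 ⟨inferInstance, inferInstance⟩
    refine UnivOn.of_iso a' ?_
    have hrel : (P0.map a).Rel ((P0.map (f ⁻¹ᵁ U).ι).map a') :=
      (ha' ▸ Pt.map_comp_rel a' _ P0 : ((P0.map (f ⁻¹ᵁ U).ι).map a').Rel (P0.map a)).symm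
    intro T Q hQ
    have huniv : UnivOn (P0.map a) U := by
      refine univOn_of_coords φ i rfl (P0.map a) e.hom ?_ τ fun j => ?_
      · show a ≫ f = e.hom ≫ CohB1.ProjSpace.toSpec n R ≫ i
        rw [← Category.assoc, he]
        exact pullback.condition
      · refine (Pt.map_s_puSec a P0 _).trans ?_
        show puSec a ((evalMap f L).app (f ⁻¹ᵁ U) (puSec f (CycPBLib.bas φ j))) = _
        rw [hval]
        exact hm j
    obtain ⟨k, hk, huk⟩ := huniv T Q hQ
    exact ⟨k, (Pt.map_rel k hrel).symm.trans hk, fun k' hk' => huk k' ((Pt.map_rel k' hrel).trans hk')⟩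

/-- A family locally isomorphic to projective space, with a module locally the twisting module, is the
projective bundle of the direct image. -/
theorem isProjBundle_push (hL : PicF.IsInvertible L) {n : ℕ}
    (hloc : ∀ b : B, ∃ (R : Type u) (_ : CommRing R) (i : Spec (CommRingCat.of R) ⟶ B), IsOpenImmersion i ∧
      b ∈ Set.range i ∧ ∃ e : pullback f i ≅ CohB1.ProjSpace n R,
        e.hom ≫ CohB1.ProjSpace.toSpec n R = pullback.snd f i ∧
          Nonempty (pb e.hom (Twist.twistProjSpace n R 1) ≅ pb (pullback.fst f i) L)) :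
    FlatMod.IsFinLocFreeOfRank (n + 1) ((Scheme.Modules.pushforward f).obj L) ∧
      KRR.IsProjBundle f ((Scheme.Modules.pushforward f).obj L) L (evalMap f L) := by
  classical
  choose R hR i hi hb e he τ using hloc
  have key := fun b => (@exists_univOn_of_chart B C f L _ _ hL n (R b) (hR b) (i b) (hi b) (e b) (he b) (τ b).some)
  choose φ hgen huniv using key
  have hE : FlatMod.IsFinLocFreeOfRank (n + 1) ((Scheme.Modules.pushforward f).obj L) := fun b =>
    ⟨_, hb b, ⟨φ b⟩⟩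
  haveI hepi : Epi (evalMap f L) := by
    refine QCohLib.epi_of_surjective_on_affines _ fun O t z hz => ?_
    let b := f z
    obtain ⟨j, hj⟩ := hgen b z (hb b)
    let U := (i b).opensRange
    let m : Γ(L, f ⁻¹ᵁ U) := (evalMap f L).app (f ⁻¹ᵁ U) (puSec f (CycPBLib.bas (φ b) j))
    let G := CycPBLib.genLocus' m hL
    have hGle : G ≤ f ⁻¹ᵁ U := CycPBLib.genLocus'_le m hL
    have hg := CycPBLib.genLocus'_genOn m hL
    let V := O ⊓ G
    obtain ⟨c, hc⟩ := (hg V inf_le_right).2 (res L inf_le_left t)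
    refine ⟨V, inf_le_left, ⟨hz, hb b, hj⟩,
      c • res (pb f ((Scheme.Modules.pushforward f).obj L)) (inf_le_right.trans hGle)
        (puSec f (CycPBLib.bas (φ b) j)), ?_⟩
    refine ((QCohLib.app_smul (evalMap f L) V c _).trans ?_).trans hc
    refine congrArg (c • ·) ?_
    refine (QCohLib.app_map (evalMap f L) (homOfLE (inf_le_right.trans hGle)) _).trans ?_
    exact (AmpleLib.res_res L _ _ _).symm
  exact ⟨hE, isProjBundle_of_univOn hE hL _ fun b => ⟨_, hb b, huniv b⟩⟩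

end ProjRecLib

end
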