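import Groth.Agent.ProjBunLib.Exists
import Groth.Agent.CohBCLib.LocFreeSec
import Groth.Agent.ProjSecLib.Gamma

/-!
# Frames with prescribed sections, and the coordinates as a basis of the linear forms
-/

set_option autoImplicit false
set_option linter.style.haveILetI false
set_option linter.unusedSectionVars false

universe u

open AlgebraicGeometry CategoryTheory CategoryTheory.Limits Opposite TopologicalSpace
open AmpleLib (res)
open KFlatLib (pb puSec)

noncomputable section

namespace ProjRecLib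

/-- A basis of the sections over an affine open is the basis of a trivialisation. -/
theorem exists_frame {X : Scheme.{u}} {U : X.Opens} (hU : IsAffineOpen U) (E : X.Modules) [Coh.IsQCoh E] {n : ℕ}
    (b : Module.Basis (Fin n) Γ(X, U) Γ(E, U)) :
    ∃ φ : E.restrict U.ι ≅ FlatMod.freeMod (↑U) n, ∀ k, CycPBLib.bas φ k = b k := by
  classical
  haveI : IsAffine (U : Scheme.{u}) := hU
  let N := E.restrict U.ι
  haveI : Coh.IsQCoh N := inferInstance
  have hle : U.ι ''ᵁ ⊤ ≤ U := (Scheme.Opens.ι_image_top U).le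
  have hge : U ≤ U.ι ''ᵁ ⊤ := (Scheme.Opens.ι_image_top U).ge
  let σ : Fin n → Γ(N, ⊤) := fun k => res E hle (b k)
  have hsm : ∀ (r : Γ((U : Scheme.{u}), ⊤)) (t : Γ(N, ⊤)),
      res E hge (show Γ(E, U.ι ''ᵁ ⊤) from r • t) =
        (show Γ(X, U) from X.presheaf.map (homOfLE hge).op r) • res E hge (show Γ(E, U.ι ''ᵁ ⊤) from t) := fun r t => by
    rw [← AmpleLib.res_smul]
    exact congrArg _ (FittLib.smul_restrict E U _ r t)
  have hσ : ∀ k, res E hge (show Γ(E, U.ι ''ᵁ ⊤) from σ k) = b k := fun k => by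
    show res E hge (res E hle (b k)) = b k
    rw [AmpleLib.res_res, AmpleLib.res_refl]
  have hinj : ∀ x : Γ(N, ⊤), res E hge (show Γ(E, U.ι ''ᵁ ⊤) from x) = 0 → x = 0 := fun x hx => by
    have h := congrArg (res E hle) hx
    rw [AmpleLib.res_res, AmpleLib.res_refl] at h
    exact h.trans (map_zero _)
  have hsum : ∀ c : Fin n → Γ((U : Scheme.{u}), ⊤), res E hge (show Γ(E, U.ι ''ᵁ ⊤) from ∑ k, c k • σ k) =
      ∑ k, (show Γ(X, U) from X.presheaf.map (homOfLE hge).op (c k)) • b k := fun c => by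
    refine (map_sum ((E.presheaf.map (homOfLE hge).op).hom) _ _).trans (Finset.sum_congr rfl fun k _ => ?_)
    exact (hsm (c k) (σ k)).trans (congrArg _ (hσ k))
  let b' : Module.Basis (Fin n) Γ((U : Scheme.{u}), ⊤) Γ(N, ⊤) :=
    Module.Basis.mk (v := σ) (Fintype.linearIndependent_iff.2 fun c hc k => by
      have h := (hsum c).symm.trans ((congrArg (fun x : Γ(N, ⊤) => res E hge (show Γ(E, U.ι ''ᵁ ⊤) from x)) hc).trans
        (map_zero (E.presheaf.map (homOfLE hge).op).hom))
      have h0 := Fintype.linearIndependent_iff.1 b.linearIndependent _ h k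
      have h1 := congrArg (X.presheaf.map (homOfLE hle).op) h0
      rw [map_zero] at h1
      refine Eq.trans ?_ h1
      exact (congr($(X.presheaf.map_id _) (c k))).symm.trans (QCohLib.ringMap_map' (X := X) (homOfLE hle) (homOfLE hge) _).symm)
    fun x _ => by
      let a : Fin n → Γ((U : Scheme.{u}), ⊤) := fun k =>
        X.presheaf.map (homOfLE hle).op (b.repr (res E hge (show Γ(E, U.ι ''ᵁ ⊤) from x)) k)
      have hx : x = ∑ k, a k • σ k := by
        refine sub_eq_zero.1 (hinj _ ?_)
        refine (map_sub ((E.presheaf.map (homOfLE hge).op).hom) _ _).trans (sub_eq_zero.2 ?_)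
        refine Eq.trans ?_ (hsum a).symm
        refine Eq.trans (b.sum_repr _).symm (Finset.sum_congr rfl fun k _ => ?_)
        congr 1
        exact (congr($(X.presheaf.map_id _) _)).symm.trans (QCohLib.ringMap_map' _ _ _).symm
      rw [hx]
      exact Submodule.sum_mem _ fun k _ => Submodule.smul_mem _ _ (Submodule.subset_span ⟨k, rfl⟩)
  have hb' : ∀ k, b' k = σ k := fun k => Module.Basis.mk_apply _ _ k
  haveI : Coh.IsQCoh (FlatMod.freeMod (↑U) n) := LocSuppLib.isQCoh_freeMod _ n
  let s : FlatMod.freeMod (↑U) n ⟶ N := Sigma.desc fun i => (KFlatLib.unitSecEquiv N).symm (σ i)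
  have hstd : ∀ k, s.app ⊤ (FittLib.stdSec _ n ⊤ k) = σ k := fun k => by
    have h : Sigma.ι (fun _ : Fin n => Coh.structureModule (U : Scheme.{u})) k ≫ s =
        (KFlatLib.unitSecEquiv N).symm (σ k) := Sigma.ι_desc _ _
    refine (congrArg (fun ψ : Coh.structureModule (U : Scheme.{u}) ⟶ N => ψ.app ⊤ (1 : Γ((U : Scheme.{u}), ⊤))) h).trans ?_
    rw [CohBCLib.unit_app_eq _ 1, one_smul, Equiv.apply_symm_apply]
  haveI : IsIso s := by
    refine CohBCLib.isIso_of_bijective_top s ⟨(injective_iff_map_eq_zero _).2 fun x hx => ?_, fun y => ?_⟩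
    · rw [FittLib.sum_coord x, map_sum] at hx
      simp only [QCohLib.app_smul] at hx
      have hc := Fintype.linearIndependent_iff.1 b'.linearIndependent (fun k => FittLib.coord x k)
        (by
          refine Eq.trans (Finset.sum_congr rfl fun k _ => ?_) hx
          rw [hb']
          exact congrArg _ (hstd k).symm)
      rw [FittLib.sum_coord x]
      exact Finset.sum_eq_zero fun i _ => by rw [hc i, zero_smul]
    · refine ⟨∑ i, b'.repr y i • FittLib.stdSec _ n ⊤ i, ?_⟩
      rw [map_sum]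
      refine (Finset.sum_congr rfl fun i _ => ?_).trans (b'.sum_repr y)
      rw [QCohLib.app_smul, hstd, hb']
  refine ⟨(asIso s).symm, fun k => ?_⟩
  have h1 : s.app (U.ι ⁻¹ᵁ U) (FittLib.stdSec _ n (U.ι ⁻¹ᵁ U) k) =
      N.presheaf.map (homOfLE (le_top : U.ι ⁻¹ᵁ U ≤ ⊤)).op (σ k) := by
    rw [← hstd k]
    refine Eq.trans ?_ (QCohLib.app_map s (homOfLE (le_top : U.ι ⁻¹ᵁ U ≤ ⊤)) _)
    refine congrArg _ (Eq.trans ?_ (QCohLib.app_map (Sigma.ι (fun _ : Fin n => Coh.structureModule (U : Scheme.{u})) k)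
      (homOfLE (le_top : U.ι ⁻¹ᵁ U ≤ ⊤)) (1 : Γ((U : Scheme.{u}), ⊤))))
    exact congrArg _ (map_one ((U : Scheme.{u}).presheaf.map (homOfLE (le_top : U.ι ⁻¹ᵁ U ≤ ⊤)).op).hom).symm
  unfold CycPBLib.bas
  rw [show (asIso s).symm.inv = s from rfl, h1]
  refine (QCohLib.map_map' E _ _ _).trans ((QCohLib.map_map' E _ _ (b k)).trans ?_)
  exact congr($(E.presheaf.map_id _) (b k))

variable {R : Type u} [CommRing R] {n : ℕ}

/-- The scalars of the base on the global sections of `O(1)`. -/
abbrev scal (n : ℕ) (r : R) : Γ(CohB1.ProjSpace n R, ⊤) := Coh.toGlobal (CohB1.ProjSpace.toSpec n R) r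

/-- A linear form is a combination of the coordinates. -/
theorem globalOf_sum (a : (CohB1.polyGrading n R) 1) :
    ∃ c : Fin (n + 1) → R, (a : MvPolynomial (Fin (n + 1)) R) = ∑ i, c i • MvPolynomial.X i := by
  classical
  refine ⟨fun i => MvPolynomial.coeff (Finsupp.single i 1) (a : MvPolynomial (Fin (n + 1)) R), ?_⟩
  have h : (a : MvPolynomial (Fin (n + 1)) R) ∈ Submodule.span R (Set.range MvPolynomial.X) := by
    exact (SetLike.ext_iff.1 (MvPolynomial.homogeneousSubmodule_one_eq_span_X (R := R) (σ := Fin (n + 1)))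
      (a : MvPolynomial (Fin (n + 1)) R)).1 a.2
  obtain ⟨c, hc⟩ := (Submodule.mem_span_range_iff_exists_fun R).1 h
  rw [← hc]
  refine Finset.sum_congr rfl fun i _ => ?_
  congr 1
  simp [MvPolynomial.coeff_sum, MvPolynomial.coeff_X', Finsupp.single_left_inj]

/-- The global sections of `O(1)` are freely generated by the coordinates. -/
theorem coord_free :
    (∀ t : Γ(Twist.twistProjSpace n R 1, ⊤), ∃ c : Fin (n + 1) → R,
      t = ∑ i, scal n (c i) • (show Γ(Twist.twistProjSpace n R 1, ⊤) from ProjUP.coord n R i)) ∧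
    ∀ c : Fin (n + 1) → R, (∑ i, scal n (c i) • (show Γ(Twist.twistProjSpace n R 1, ⊤) from ProjUP.coord n R i)) = 0 →
      c = 0 := by
  classical
  let G : (CohB1.polyGrading n R) 1 →+ Γ(Twist.twist (CohB1.polyGrading n R) ((1 : ℕ) : ℤ), ⊤) :=
    AddMonoidHom.mk' (fun a => Twist.globalOf (CohB1.polyGrading n R) a) fun a b => by
      refine TwistLib.sec_ext fun x => ?_
      show Localization.mk _ _ = Localization.mk _ _ + Localization.mk _ _
      rw [Localization.add_mk_self]
      rfl
  have hG : ∀ (r : R) (i : Fin (n + 1)), G (r • ⟨MvPolynomial.X i, MvPolynomial.isHomogeneous_X R i⟩) =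
      scal n r • (show Γ(Twist.twistProjSpace n R 1, ⊤) from ProjUP.coord n R i) := fun r i =>
    ProjSecLib.globalOf_smul (d := 1) r _
  refine ⟨fun t => ?_, fun c hc => ?_⟩
  · obtain ⟨a, ha⟩ := ProjSecLib.globalOf_surjective (d := 1) t
    obtain ⟨c, hc⟩ := globalOf_sum a
    refine ⟨c, ?_⟩
    have e : a = ∑ i, c i • (⟨MvPolynomial.X i, MvPolynomial.isHomogeneous_X R i⟩ : (CohB1.polyGrading n R) 1) :=
      Subtype.ext (by rw [Submodule.coe_sum]; exact hc)
    refine (ha.symm.trans (congrArg G e)).trans ?_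
    rw [map_sum]
    exact Finset.sum_congr rfl fun i _ => hG (c i) i
  · have h0 : G (∑ i, c i • (⟨MvPolynomial.X i, MvPolynomial.isHomogeneous_X R i⟩ : (CohB1.polyGrading n R) 1)) = G 0 := by
      rw [map_sum, map_zero]
      exact (Finset.sum_congr rfl fun i _ => hG (c i) i).trans hc
    have h1 := congrArg (fun a : (CohB1.polyGrading n R) 1 => (a : MvPolynomial (Fin (n + 1)) R))
      (ProjSecLib.globalOf_injective (d := 1) h0)
    refine funext fun j => ?_
    have h2 := congrArg (MvPolynomial.coeff (Finsupp.single j 1)) h1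
    simpa [Submodule.coe_sum, MvPolynomial.coeff_sum, MvPolynomial.coeff_X', Finsupp.single_left_inj] using h2

end ProjRecLib

end
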