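import Groth.Agent.ProjRecLib.Univ

/-!
# A quotient universal locally over the base is a projective bundle
-/

set_option autoImplicit false
set_option linter.style.haveILetI false
set_option linter.unusedSectionVars false

universe u

open AlgebraicGeometry CategoryTheory CategoryTheory.Limits Opposite TopologicalSpace
open KFlatLib (pb)
open ProjBunLib (Pt)
open CycPBLib (compQ)

noncomputable section

namespace ProjRecLib

variable {B C : Scheme.{u}} {E : B.Modules}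

/-- A quotient of a locally free module universal over the members of a cover of the base is a projective
bundle. -/
theorem isProjBundle_of_univOn {f : C ⟶ B} {n : ℕ} (hE : FlatMod.IsFinLocFreeOfRank (n + 1) E) {L : C.Modules}
    (hL : PicF.IsInvertible L) (q : pb f E ⟶ L) [hq : Epi q]
    (hloc : ∀ b : B, ∃ U : B.Opens, b ∈ U ∧ UnivOn ((⟨f, L, hL, q, hq⟩ : Pt E C).map (f ⁻¹ᵁ U).ι) U) :
    KRR.IsProjBundle f E L q := by
  let P0 : Pt E C := ⟨f, L, hL, q, hq⟩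
  obtain ⟨P, π, O1, qP, hP⟩ := ProjBunLib.exists_isProjBundle hE
  haveI := hP.epi
  let Pb : Pt E P := ⟨π, O1, (CohCmpLib.invertible_iff_rank_one O1).2 hP.invertible, qP, hP.epi⟩
  have huniv : ∀ {T : Scheme.{u}} (Q : Pt E T), ∃! k : T ⟶ P, (Pb.map k).Rel Q := fun {T} Q => by
    obtain ⟨k, hk, huk⟩ := hP.univ T Q.g Q.L ((CohCmpLib.invertible_iff_rank_one _).1 Q.inv) Q.s Q.epi
    exact ⟨k, (Pt.rel_map_iff k Pb Q).2 hk, fun k' hk' => huk k' ((Pt.rel_map_iff k' Pb Q).1 hk')⟩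
  obtain ⟨h, hh, -⟩ := huniv P0
  obtain ⟨hhf, -⟩ := (Pt.rel_map_iff h Pb P0).1 hh
  choose U hbU hU using hloc
  have hiso : ∀ b, IsIso (h ∣_ π ⁻¹ᵁ U b) := by
    intro b
    let V := π ⁻¹ᵁ U b
    have hUV : UnivOn (P0.map (h ⁻¹ᵁ V).ι) (U b) := by
      have e : f ⁻¹ᵁ U b = h ⁻¹ᵁ V := by
        subst hhf
        rfl
      exact e ▸ hU b
    obtain ⟨k, hk, -⟩ := hUV V.toScheme (Pb.map V.ι) (by
      show (V.ι ≫ π) ⁻¹ᵁ U b = ⊤
      exact top_le_iff.1 fun x _ => x.2)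
    let hV := h ∣_ V
    have hfac : hV ≫ V.ι = (h ⁻¹ᵁ V).ι ≫ h := morphismRestrict_ι h V
    have h1 : ∀ {T : Scheme.{u}} (a : T ⟶ (h ⁻¹ᵁ V).toScheme),
        (Pb.map (a ≫ (h ⁻¹ᵁ V).ι ≫ h)).Rel ((P0.map (h ⁻¹ᵁ V).ι).map a) := fun a =>
      (Pt.map_comp_rel a _ Pb).symm.trans (Pt.map_rel a ((Pt.map_comp_rel _ h Pb).symm.trans (Pt.map_rel _ hh)))
    refine ⟨k, ?_, ?_⟩
    · obtain ⟨m, -, hm⟩ := hUV _ (P0.map (h ⁻¹ᵁ V).ι) (by
        show ((h ⁻¹ᵁ V).ι ≫ f) ⁻¹ᵁ U b = ⊤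
        refine top_le_iff.1 fun x _ => ?_
        show f x.1 ∈ U b
        rw [← show h ≫ π = f from hhf]
        exact x.2)
      refine (hm (hV ≫ k) ?_).trans (hm (𝟙 _) (Pt.map_id_rel _)).symm
      refine (Pt.map_comp_rel hV k _).symm.trans ((Pt.map_rel hV hk).trans ?_)
      refine (Pt.map_comp_rel hV V.ι Pb).trans ?_
      rw [hfac]
      exact (Pt.map_comp_rel _ h Pb).symm.trans (Pt.map_rel _ hh)
    · rw [← cancel_mono V.ι, Category.assoc, hfac, Category.id_comp]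
      exact (huniv (Pb.map V.ι)).unique ((h1 k).trans hk) (Pt.Rel.refl _)
  haveI : IsIso h := by
    have ht : iSup (fun b => π ⁻¹ᵁ U b) = ⊤ :=
      top_le_iff.1 fun x _ => Opens.mem_iSup.2 ⟨π x, hbU (π x)⟩
    exact (IsZariskiLocalAtTarget.iff_of_iSup_eq_top (P := MorphismProperty.isomorphisms Scheme) _ ht).2 hiso
  refine ⟨(CohCmpLib.invertible_iff_rank_one _).1 hL, hq, fun T g M hM s hs => ?_⟩
  let Q : Pt E T := ⟨g, M, (CohCmpLib.invertible_iff_rank_one _).2 hM, s, hs⟩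
  obtain ⟨k, hk, huk⟩ := huniv Q
  have hrel : ∀ k' : T ⟶ C, (Pb.map (k' ≫ h)).Rel (P0.map k') := fun k' =>
    (Pt.map_comp_rel k' h Pb).symm.trans (Pt.map_rel k' hh)
  refine ⟨k ≫ inv h, (Pt.rel_map_iff _ P0 Q).1 ((hrel _).symm.trans ?_), fun k' hk' => ?_⟩
  · rw [Category.assoc, IsIso.inv_hom_id, Category.comp_id]
    exact hk
  · rw [← huk (k' ≫ h) ((hrel k').trans ((Pt.rel_map_iff k' P0 Q).2 hk')), Category.assoc, IsIso.hom_inv_id,
      Category.comp_id]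

end ProjRecLib

end
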