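import Groth.Agent.ProjRecLib.Sections
import Groth.Agent.ZeroFamLib.Bundle
import Groth.Agent.CubeConsLib.IsoCls

/-!
# Families of lines with two or three disjoint sections
-/

set_option autoImplicit false
set_option linter.style.haveILetI false
universe u

open AlgebraicGeometry CategoryTheory CategoryTheory.Limits TopologicalSpace
open KFlatLib (pb)
open CubeConsLib (IsoCls cl pull)

noncomputable section

namespace ProjRecLib

attribute [local instance] ZeroFamLib.fibreOver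

variable {C B : Scheme.{u}} {f : C ⟶ B}

theorem ne_of_disjoint {s₁ s₂ : B ⟶ C} (h : Disjoint (Set.range s₁) (Set.range s₂)) (b : B) : s₁ b ≠ s₂ b :=
  fun e => Set.disjoint_left.1 h ⟨b, rfl⟩ ⟨b, e.symm⟩

/-- Pulling back along the identity. -/
theorem pull_id {X : Scheme.{u}} (c : IsoCls X) : pull (𝟙 X) c = c := by
  induction c using Quotient.ind with
  | _ M => exact Quotient.sound ⟨(Scheme.Modules.pullbackId X).app M⟩

/-- Two disjoint sections: the bundle of a sum of two line bundles. -/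
theorem exists_sum_bundle (hf : ModFun.IsCurveOfGenus 0 f) (s₁ s₂ : B ⟶ C) (hs₁ : s₁ ≫ f = 𝟙 B) (hs₂ : s₂ ≫ f = 𝟙 B)
    (h : ∀ b, s₁ b ≠ s₂ b) :
    ∃ L₁ L₂ : B.Modules, FlatMod.IsFinLocFreeOfRank 1 L₁ ∧ FlatMod.IsFinLocFreeOfRank 1 L₂ ∧
      ∃ (O1 : C.Modules) (q : pb f (L₁ ⊞ L₂) ⟶ O1), KRR.IsProjBundle f (L₁ ⊞ L₂) O1 q := by
  obtain ⟨L, hL, hdeg⟩ := ZeroFamLib.exists_deg_one hf s₁ hs₁
  obtain ⟨hE, hP⟩ := ZeroFamLib.isProjBundle_of_deg_one hf hL hdeg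
  haveI := isIso_lift hP hE hs₁ hs₂ h
  exact ⟨_, _, rank_one_sec hP s₁, rank_one_sec hP s₂, L, _,
    isProjBundle_source hP (asIso (biprod.lift (secMap (ProjRecLib.evalMap f L) hs₁)
      (secMap (ProjRecLib.evalMap f L) hs₂))).symm⟩

/-- Three disjoint sections: the trivial bundle. -/
theorem exists_free_bundle (hf : ModFun.IsCurveOfGenus 0 f) (s₁ s₂ s₃ : B ⟶ C) (hs₁ : s₁ ≫ f = 𝟙 B)
    (hs₂ : s₂ ≫ f = 𝟙 B) (hs₃ : s₃ ≫ f = 𝟙 B) (h₁₂ : ∀ b, s₁ b ≠ s₂ b) (h₁₃ : ∀ b, s₁ b ≠ s₃ b)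
    (h₂₃ : ∀ b, s₂ b ≠ s₃ b) :
    ∃ (O1 : C.Modules) (q : pb f (FlatMod.freeMod B 2) ⟶ O1), KRR.IsProjBundle f (FlatMod.freeMod B 2) O1 q := by
  obtain ⟨L, hL, hdeg⟩ := ZeroFamLib.exists_deg_one hf s₁ hs₁
  obtain ⟨hE, hP⟩ := ZeroFamLib.isProjBundle_of_deg_one hf hL hdeg
  haveI := isIso_lift hP hE hs₁ hs₃ h₁₃
  haveI := isIso_lift hP hE hs₂ hs₃ h₂₃
  obtain ⟨e₁₂⟩ := nonempty_iso_of_lifts (secMap (ProjRecLib.evalMap f L) hs₁) (secMap (ProjRecLib.evalMap f L) hs₂)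
    (secMap (ProjRecLib.evalMap f L) hs₃)
  have hM : PicF.IsInvertible (pb s₁ L) := AmpleDevLib.isInvertible_pb s₁ hL
  let N : B.Modules := MiscFlat6.dual (pb s₁ L)
  have hN : PicF.IsInvertible N := MiscFlat6.dual_isInvertible hM
  let L' : C.Modules := CohB1.tensorMod L (pb f N)
  have hL' : PicF.IsInvertible L' := HilbPolyLib.isInvertible_tensor hL (AmpleDevLib.isInvertible_pb f hN)
  have hcl : cl L' = cl L * pull f (cl N) := rfl
  have hdeg' : ∀ b : B, Curv2.deg (B.residueField b) (f.fiber b) (pb (f.fiberι b) L') 1 = 1 := fun b => by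
    haveI : Subsingleton ↥(Spec (B.residueField b)) := inferInstanceAs (Subsingleton (PrimeSpectrum _))
    haveI : Nonempty ↥(Spec (B.residueField b)) := inferInstanceAs (Nonempty (PrimeSpectrum _))
    have h1 : pull (f.fiberι b) (cl L') = pull (f.fiberι b) (cl L) := by
      rw [hcl, map_mul, CubeConsLib.pull_comp, show f.fiberι b ≫ f =
        f.fiberToSpecResidueField b ≫ B.fromSpecResidueField b from pullback.condition,
        CubeConsLib.pull_eq_one_of_factor _ _ hN, mul_one]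
    obtain ⟨e⟩ := CubeConsLib.cl_eq_iff.1 h1
    rw [CurvLib.deg_congr e]
    exact hdeg b
  obtain ⟨hE', hP'⟩ := ZeroFamLib.isProjBundle_of_deg_one hf hL' hdeg'
  have hsec : ∀ s : B ⟶ C, s ≫ f = 𝟙 B → pull s (cl L') = cl (pb s L) * cl N := fun s hs => by
    rw [hcl, map_mul, CubeConsLib.pull_comp, hs, pull_id]
    rfl
  have hone : cl (pb s₁ L) * cl N = 1 := CubeConsLib.cl_eq_one_iff.2 (MiscFlat6.nonempty_dualIso hM)
  obtain ⟨a₁⟩ := CubeConsLib.cl_eq_one_iff.1 ((CubeConsLib.pull_cl s₁ L').symm.trans ((hsec s₁ hs₁).trans hone))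
  obtain ⟨a₂⟩ := CubeConsLib.cl_eq_one_iff.1 ((CubeConsLib.pull_cl s₂ L').symm.trans ((hsec s₂ hs₂).trans
    (show cl (pb s₂ L) * cl N = 1 by rw [CubeConsLib.cl_eq_iff.2 ⟨e₁₂.symm⟩, hone])))
  haveI := isIso_lift hP' hE' hs₁ hs₂ h₁₂
  have hz : IsZero (FlatMod.freeMod B 0) := by
    rw [IsZero.iff_id_eq_zero]
    exact Sigma.hom_ext _ _ fun i => i.elim0
  let e : FlatMod.freeMod B 2 ≅ (Scheme.Modules.pushforward f).obj L' :=
    LocSuppLib.freeModSucc B 1 ≪≫ biprod.mapIso a₁.symm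
      (LocSuppLib.freeModSucc B 0 ≪≫ (isoBiprodZero hz).symm ≪≫ a₂.symm) ≪≫
      (asIso (biprod.lift (secMap (ProjRecLib.evalMap f L') hs₁) (secMap (ProjRecLib.evalMap f L') hs₂))).symm
  exact ⟨L', _, isProjBundle_source hP' e⟩

end ProjRecLib

end
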