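import Groth.Agent.ProjBunLib.Exists
import Groth.Agent.CohCmpLib.UnitFibre
import Groth.Agent.QuotSchLib.ZeroLocus
import Groth.Agent.CurveVBLib.Line
import Groth.Agent.CycBdlLib.Spec
import Groth.Agent.MiscFlat6.CoprodQProj

/-!
# Disjoint sections of a projective bundle of rank two
-/

set_option autoImplicit false
set_option linter.style.haveILetI false
set_option linter.unusedSectionVars false
set_option maxHeartbeats 1000000

universe u

open AlgebraicGeometry CategoryTheory CategoryTheory.Limits Opposite TopologicalSpace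
open KFlatLib (pb puSec)
open ProjBunLib (Pt)
open CycPBLib (compQ)

noncomputable section

namespace ProjRecLib

variable {X B C Z : Scheme.{u}}

/-- Rank two of a sum of two line bundles. -/
theorem rank_two_biprod {L₁ L₂ : X.Modules} (h₁ : FlatMod.IsFinLocFreeOfRank 1 L₁)
    (h₂ : FlatMod.IsFinLocFreeOfRank 1 L₂) : FlatMod.IsFinLocFreeOfRank 2 (L₁ ⊞ L₂) := fun x => by
  obtain ⟨U₁, hx₁, e₁⟩ := h₁ x
  obtain ⟨U₂, hx₂, e₂⟩ := h₂ x
  let U := U₁ ⊓ U₂
  have g : ∀ {L : X.Modules} {V : X.Opens} (hV : U ≤ V), Nonempty (L.restrict V.ι ≅ FlatMod.freeMod (↑V) 1) →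
      Nonempty (L.restrict U.ι ≅ FlatMod.freeMod (↑U) 1) := by
    intro L V hV e
    have h := RankLocusLib.freeAlong_comp ((RankLocusLib.freeAlong_restrict_iff L V).2 e) (X.homOfLE hV)
    rw [Scheme.homOfLE_ι] at h
    exact (RankLocusLib.freeAlong_restrict_iff L U).1 h
  obtain ⟨φ₁⟩ := g inf_le_left e₁
  obtain ⟨φ₂⟩ := g inf_le_right e₂
  have hz : IsZero (FlatMod.freeMod (↑U : Scheme.{u}) 0) := by
    rw [IsZero.iff_id_eq_zero]
    exact Sigma.hom_ext _ _ fun i => i.elim0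
  haveI := preservesBinaryBiproducts_of_preservesBinaryCoproducts (Scheme.Modules.restrictFunctor U.ι)
  exact ⟨U, ⟨hx₁, hx₂⟩, ⟨(Scheme.Modules.restrictFunctor U.ι).mapBiprod _ _ ≪≫
    biprod.mapIso (φ₁ ≪≫ LocSuppLib.freeModSucc _ 0 ≪≫ (isoBiprodZero hz).symm) φ₂ ≪≫
      (LocSuppLib.freeModSucc (U : Scheme.{u}) 1).symm⟩⟩

/-- Over a one-point scheme with a field of functions, a nonzero map to a line bundle is an epimorphism. -/
theorem epi_of_ne_zero [Subsingleton Z] [IsAffine Z] (hk : IsField Γ(Z, ⊤)) {M L : Z.Modules}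
    (hL : FlatMod.IsFinLocFreeOfRank 1 L) (φ : M ⟶ L) (hφ : φ ≠ 0) : Epi φ := by
  haveI : Coh.IsQCoh L := (LocSuppLib.isCoh_of_isFinLocFree fun x => let ⟨U, h⟩ := hL x; ⟨U, 1, h⟩).1
  refine QCohLib.epi_of_surjective_on_affines _ fun O t z hz => ?_
  obtain rfl : O = ⊤ := top_le_iff.1 fun z' _ => by rwa [Subsingleton.elim z' z]
  refine ⟨⊤, le_rfl, hz, ?_⟩
  suffices h : Function.Surjective (φ.app ⊤) from h _
  obtain ⟨U, hU, e⟩ := hL z
  obtain rfl : U = ⊤ := top_le_iff.1 fun z' _ => by rwa [Subsingleton.elim z' z]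
  obtain ⟨b⟩ := RankLocusLib.nonempty_basis_of_freeAlong L ((RankLocusLib.freeAlong_restrict_iff L _).2 e)
  obtain ⟨m, hm⟩ : ∃ m : Γ(M, ⊤), φ.app ⊤ m ≠ 0 := by
    by_contra hcon
    simp only [not_exists, not_not] at hcon
    refine hφ (Scheme.Modules.hom_ext _ _ fun V => ?_)
    by_cases hV : z ∈ V
    · obtain rfl : V = ⊤ := top_le_iff.1 fun z' _ => by rwa [Subsingleton.elim z' z]
      ext m
      exact (hcon m).trans rfl
    · ext m
      haveI := MiscFlat6.subsingleton_bot L (U := V)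
        (eq_bot_iff.2 fun z' hz' => hV (by rwa [← Subsingleton.elim z' z]))
      exact Subsingleton.elim _ _
  intro y
  have hc : b.repr (φ.app ⊤ m) 0 ≠ 0 := fun h => hm (b.repr.map_eq_zero_iff.1
    (Finsupp.ext fun i => by rw [Subsingleton.elim i 0, h]; rfl))
  obtain ⟨d, hd⟩ := hk.mul_inv_cancel hc
  refine ⟨(b.repr y 0 * d) • m, ?_⟩
  rw [QCohLib.app_smul]
  refine b.repr.injective (Finsupp.ext fun i => ?_)
  rw [Subsingleton.elim i 0, map_smul, Finsupp.smul_apply, smul_eq_mul, mul_assoc, mul_comm d, hd, mul_one]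

/-- A pair of maps, the first an epimorphism and the second one on its kernel, is an epimorphism. -/
theorem epi_lift {A : Type*} [Category A] [Abelian A] {M N₁ N₂ : A} (a : M ⟶ N₁) (b : M ⟶ N₂) [Epi a]
    [Epi (kernel.ι a ≫ b)] : Epi (biprod.lift a b) := by
  refine Preadditive.epi_of_cancel_zero _ fun {W} w hw => ?_
  rw [biprod.lift_eq, Preadditive.add_comp, Category.assoc, Category.assoc] at hw
  have h2 : biprod.inr ≫ w = 0 := by
    rw [← cancel_epi (kernel.ι a ≫ b), comp_zero]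
    have h := congrArg (kernel.ι a ≫ ·) hw
    simpa [Preadditive.comp_add] using h
  have h1 : biprod.inl ≫ w = 0 := by
    rw [← cancel_epi a, comp_zero]
    simpa [h2] using hw
  exact biprod.hom_ext' _ _ (by rw [h1, comp_zero]) (by rw [h2, comp_zero])

variable {f : C ⟶ B} {E : B.Modules} {O1 : C.Modules}

/-- The quotient of `E` defined by a section. -/
abbrev secMap (q : pb f E ⟶ O1) {s : B ⟶ C} (hs : s ≫ f = 𝟙 B) : E ⟶ pb s O1 :=
  (Scheme.Modules.pullbackId B).inv.app E ≫ compQ q hs (𝟙 (pb s O1))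

theorem rank_one_sec {q : pb f E ⟶ O1} (hP : KRR.IsProjBundle f E O1 q) (s : B ⟶ C) :
    FlatMod.IsFinLocFreeOfRank 1 (pb s O1) :=
  CohCmpLib.rank_one_pullback s hP.invertible

/-- The point of the bundle. -/
abbrev univPt {q : pb f E ⟶ O1} (hP : KRR.IsProjBundle f E O1 q) : Pt E C :=
  ⟨f, O1, (CohCmpLib.invertible_iff_rank_one _).2 hP.invertible, q, hP.epi⟩

/-- The point of a section, over the identity. -/
abbrev secPt {q : pb f E ⟶ O1} (hP : KRR.IsProjBundle f E O1 q) {s : B ⟶ C} (hs : s ≫ f = 𝟙 B) : Pt E B :=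
  ⟨𝟙 B, pb s O1, (CohCmpLib.invertible_iff_rank_one _).2 (rank_one_sec hP s), compQ q hs (𝟙 (pb s O1)), by
    haveI := hP.epi
    haveI := ProjBunLib.epi_map s q
    unfold compQ
    infer_instance⟩

theorem secPt_rel {q : pb f E ⟶ O1} (hP : KRR.IsProjBundle f E O1 q) {s : B ⟶ C} (hs : s ≫ f = 𝟙 B) :
    ((univPt hP).map s).Rel (secPt hP hs) :=
  (Pt.rel_map_iff s _ _).2 ⟨hs, Iso.refl _, rfl⟩

theorem epi_secMap {q : pb f E ⟶ O1} (hP : KRR.IsProjBundle f E O1 q) {s : B ⟶ C} (hs : s ≫ f = 𝟙 B) :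
    Epi (secMap q hs) := by
  haveI : Epi (compQ q hs (𝟙 (pb s O1))) := (secPt hP hs).epi
  exact epi_comp _ _

/-- Two maps to the bundle with isomorphic quotients are equal. -/
theorem eq_of_rel {q : pb f E ⟶ O1} (hP : KRR.IsProjBundle f E O1 q) {k k' : Z ⟶ C}
    (h : ((univPt hP).map k).Rel ((univPt hP).map k')) : k = k' := by
  let Q := (univPt hP).map k'
  exact (hP.univ Z Q.g Q.L ((CohCmpLib.invertible_iff_rank_one _).1 Q.inv) Q.s Q.epi).unique
    ((Pt.rel_map_iff k (univPt hP) Q).1 h) ((Pt.rel_map_iff k' (univPt hP) Q).1 (Pt.Rel.refl _))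

/-- Two sections which differ at a point give independent quotients there. -/
theorem epi_pullback_lift {q : pb f E ⟶ O1} (hP : KRR.IsProjBundle f E O1 q) [Coh.IsQCoh E] {s₁ s₂ : B ⟶ C}
    (hs₁ : s₁ ≫ f = 𝟙 B) (hs₂ : s₂ ≫ f = 𝟙 B) [Subsingleton Z] [IsAffine Z] (hk : IsField Γ(Z, ⊤))
    (g : Z ⟶ B) (hne : g ≫ s₁ ≠ g ≫ s₂) :
    Epi ((Scheme.Modules.pullback g).map (biprod.lift (secMap q hs₁) (secMap q hs₂))) := by
  let F := Scheme.Modules.pullback g
  haveI := (Scheme.Modules.pullbackPushforwardAdjunction g).isLeftAdjoint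
  haveI : PreservesBinaryBiproducts F := preservesBinaryBiproducts_of_preservesBinaryCoproducts F
  haveI := epi_secMap hP hs₁
  haveI := epi_secMap hP hs₂
  haveI : Epi (F.map (secMap q hs₁)) := inferInstance
  haveI : Epi (F.map (secMap q hs₂)) := inferInstance
  have r₂ : FlatMod.IsFinLocFreeOfRank 1 (pb g (pb s₂ O1)) :=
    CohCmpLib.rank_one_pullback g (rank_one_sec hP s₂)
  have hne0 : kernel.ι (F.map (secMap q hs₁)) ≫ F.map (secMap q hs₂) ≠ 0 := by
    intro h0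
    obtain ⟨c, hc⟩ : ∃ c : pb g (pb s₁ O1) ⟶ pb g (pb s₂ O1), F.map (secMap q hs₁) ≫ c = F.map (secMap q hs₂) :=
      ⟨Abelian.epiDesc _ _ h0, Abelian.comp_epiDesc _ _ h0⟩
    haveI : Epi c := epi_of_epi_fac hc
    haveI : IsIso c := QuotSchLib.isIso_of_epi_rank (CohCmpLib.rank_one_pullback g (rank_one_sec hP s₁)) r₂ c
    refine hne (eq_of_rel hP ?_)
    refine (Pt.map_comp_rel g s₁ (univPt hP)).symm.trans ((Pt.map_rel g (secPt_rel hP hs₁)).trans ?_)
    refine Pt.Rel.trans ?_ ((Pt.map_rel g (secPt_rel hP hs₂)).symm.trans (Pt.map_comp_rel g s₂ (univPt hP)))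
    refine ⟨rfl, @asIso _ _ _ _ c ‹IsIso c›, ?_⟩
    show (Scheme.Modules.pullbackCongr (rfl : g ≫ 𝟙 B = g ≫ 𝟙 B)).inv.app E ≫ ((Scheme.Modules.pullbackComp g (𝟙 B)).inv.app E ≫
      (Scheme.Modules.pullback g).map (compQ q hs₁ (𝟙 _))) ≫ c =
      (Scheme.Modules.pullbackComp g (𝟙 B)).inv.app E ≫ (Scheme.Modules.pullback g).map (compQ q hs₂ (𝟙 _))
    rw [← cancel_epi ((Scheme.Modules.pullbackComp g (𝟙 B)).hom.app E),
      ← cancel_epi ((Scheme.Modules.pullback g).map ((Scheme.Modules.pullbackId B).inv.app E))]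
    simpa [F, secMap, Pt.map, Scheme.Modules.pullbackCongr] using hc
  haveI : Epi (kernel.ι (F.map (secMap q hs₁)) ≫ F.map (secMap q hs₂)) := epi_of_ne_zero hk r₂ _ hne0
  haveI := epi_lift (F.map (secMap q hs₁)) (F.map (secMap q hs₂))
  rw [show (Scheme.Modules.pullback g).map (biprod.lift (secMap q hs₁) (secMap q hs₂)) =
    biprod.lift (F.map (secMap q hs₁)) (F.map (secMap q hs₂)) ≫ (F.mapBiprod _ _).inv from
    (Iso.eq_comp_inv _).2 (biprod.map_lift_mapBiprod F _ _ (secMap q hs₁) (secMap q hs₂))]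
  infer_instance

/-- Two disjoint sections split the module of the bundle. -/
theorem isIso_lift {q : pb f E ⟶ O1} (hP : KRR.IsProjBundle f E O1 q) (hE : FlatMod.IsFinLocFreeOfRank 2 E)
    {s₁ s₂ : B ⟶ C} (hs₁ : s₁ ≫ f = 𝟙 B) (hs₂ : s₂ ≫ f = 𝟙 B) (hne : ∀ b : B, s₁ b ≠ s₂ b) :
    IsIso (biprod.lift (secMap q hs₁) (secMap q hs₂)) := by
  have r := rank_two_biprod (rank_one_sec hP s₁) (rank_one_sec hP s₂)
  have hc := LocSuppLib.isCoh_of_isFinLocFree fun x => let ⟨U, h⟩ := r x; ⟨U, 2, h⟩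
  haveI : Coh.IsQCoh (pb s₁ O1 ⊞ pb s₂ O1) := hc.1
  haveI : Coh.IsQCoh E := (LocSuppLib.isCoh_of_isFinLocFree fun x => let ⟨U, h⟩ := hE x; ⟨U, 2, h⟩).1
  haveI : Epi (biprod.lift (secMap q hs₁) (secMap q hs₂)) := by
    refine CohCmpLib.epi_of_epi_pullbacks hc.2 _ fun b => ?_
    let g := B.fromSpecResidueField b
    obtain ⟨z⟩ : Nonempty ↥(Spec (B.residueField b)) := inferInstanceAs (Nonempty (PrimeSpectrum _))
    haveI : Subsingleton ↥(Spec (B.residueField b)) := inferInstanceAs (Subsingleton (PrimeSpectrum _))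
    have hz : g z = b := Scheme.fromSpecResidueField_apply b z
    refine ⟨_, g, z, hz, epi_pullback_lift hP hs₁ hs₂
      ((Scheme.ΓSpecIso (B.residueField b)).commRingCatIsoToRingEquiv.toMulEquiv.isField (Field.toIsField _)) g fun h => hne b ?_⟩
    have h' := congrArg (fun k : Spec (B.residueField b) ⟶ C => k z) h
    simp only [Scheme.Hom.comp_apply, hz] at h'
    exact h'
  exact QuotSchLib.isIso_of_epi_rank hE r _

/-- The bundle of an isomorphic module. -/
theorem isProjBundle_source {q : pb f E ⟶ O1} (hP : KRR.IsProjBundle f E O1 q) {E' : B.Modules} (e : E' ≅ E) :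
    KRR.IsProjBundle f E' O1 ((Scheme.Modules.pullback f).map e.hom ≫ q) where
  invertible := hP.invertible
  epi := haveI := hP.epi; inferInstance
  univ T g L hL s hs := by
    let s0 : pb g E ⟶ L := (Scheme.Modules.pullback g).map e.inv ≫ s
    obtain ⟨h, ⟨hg, i, hi⟩, huniq⟩ := hP.univ T g L hL s0 inferInstance
    have key : ∀ (h' : T ⟶ C) (hg' : h' ≫ f = g) (i' : pb h' O1 ⟶ L),
        compQ ((Scheme.Modules.pullback f).map e.hom ≫ q) hg' i' =
          (Scheme.Modules.pullback g).map e.hom ≫ compQ q hg' i' := by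
      intro h' hg' i'
      subst hg'
      simp [compQ, Scheme.Modules.pullbackCongr]
    refine ⟨h, ⟨hg, i, ?_⟩, ?_⟩
    · refine (key h hg i.hom).trans ?_
      rw [show compQ q hg i.hom = s0 from hi, ← Functor.map_comp_assoc, e.hom_inv_id, CategoryTheory.Functor.map_id,
        Category.id_comp]
    · rintro h' ⟨hg', i', hi'⟩
      refine huniq h' ⟨hg', i', ?_⟩
      show compQ q hg' i'.hom = s0
      rw [show s0 = (Scheme.Modules.pullback g).map e.inv ≫ s from rfl, ← show _ = s from hi']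
      show _ = (Scheme.Modules.pullback g).map e.inv ≫ compQ ((Scheme.Modules.pullback f).map e.hom ≫ q) hg' i'.hom
      rw [key, ← Functor.map_comp_assoc, e.inv_hom_id, CategoryTheory.Functor.map_id, Category.id_comp]

/-- Two complements of a third quotient are isomorphic. -/
theorem nonempty_iso_of_lifts {A : Type*} [Category A] [Abelian A] {M N₁ N₂ N₃ : A} (a₁ : M ⟶ N₁) (a₂ : M ⟶ N₂)
    (a₃ : M ⟶ N₃) [IsIso (biprod.lift a₁ a₃)] [IsIso (biprod.lift a₂ a₃)] : Nonempty (N₁ ≅ N₂) := by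
  let x : N₁ ⟶ M := biprod.inl ≫ inv (biprod.lift a₁ a₃)
  let y : N₂ ⟶ M := biprod.inl ≫ inv (biprod.lift a₂ a₃)
  have hx : x ≫ biprod.lift a₁ a₃ = biprod.inl := by simp [x]
  have hy : y ≫ biprod.lift a₂ a₃ = biprod.inl := by simp [y]
  have hx1 : x ≫ a₁ = 𝟙 _ := by simpa using congrArg (· ≫ biprod.fst) hx
  have hx3 : x ≫ a₃ = 0 := by simpa using congrArg (· ≫ biprod.snd) hx
  have hy2 : y ≫ a₂ = 𝟙 _ := by simpa using congrArg (· ≫ biprod.fst) hy
  have hy3 : y ≫ a₃ = 0 := by simpa using congrArg (· ≫ biprod.snd) hy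
  have e1 : (x ≫ a₂) ≫ y = x := by
    rw [← cancel_mono (biprod.lift a₂ a₃)]
    refine biprod.hom_ext _ _ ?_ ?_ <;> simp [Category.assoc, hy2, hy3, hx3]
  have e2 : (y ≫ a₁) ≫ x = y := by
    rw [← cancel_mono (biprod.lift a₁ a₃)]
    refine biprod.hom_ext _ _ ?_ ?_ <;> simp [Category.assoc, hx1, hx3, hy3]
  exact ⟨⟨x ≫ a₂, y ≫ a₁, by rw [← Category.assoc, e1, hx1], by rw [← Category.assoc, e2, hy2]⟩⟩

end ProjRecLib

end
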