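import Groth.Agent.ProjRecLib.Frame
import Groth.Agent.S3572
import Groth.Agent.S3573

/-!
# Projective space as the bundle of a trivialised module, over an open of the base
-/

set_option autoImplicit false
set_option linter.style.haveILetI false
set_option linter.unusedSectionVars false
set_option maxHeartbeats 1000000

universe u

open AlgebraicGeometry CategoryTheory CategoryTheory.Limits Opposite TopologicalSpace
open AmpleLib (res GenAt)
open KFlatLib (pb puSec)
open ProjBunLib (Pt)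
open CycPBLib (compQ bas)

noncomputable section

namespace ProjRecLib

variable {B D T : Scheme.{u}} {E : B.Modules}

/-- A quotient universal among those whose base map lands in an open. -/
def UnivOn (P : Pt E D) (U : B.Opens) : Prop :=
  ∀ (T : Scheme.{u}) (Q : Pt E T), Q.g ⁻¹ᵁ U = ⊤ → ∃! k : T ⟶ D, (P.map k).Rel Q

variable {R : Type u} [CommRing R] {n : ℕ} {U : B.Opens}

/-- A quotient of a trivialised module which identifies the source with projective space by the basis is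
universal over the open. -/
theorem univOn_of_coords (φ : E.restrict U.ι ≅ FlatMod.freeMod (↑U) (n + 1)) (i : Spec (CommRingCat.of R) ⟶ B)
    [IsOpenImmersion i] (hi : i.opensRange = U) (P : Pt E D) (e : D ⟶ CohB1.ProjSpace n R) [IsIso e]
    (hg : P.g = e ≫ CohB1.ProjSpace.toSpec n R ≫ i) (τ : pb e (Twist.twistProjSpace n R 1) ≅ P.L)
    (hv : ∀ j, P.s.app (P.g ⁻¹ᵁ U) (puSec P.g (bas φ j)) =
      res P.L (le_top : P.g ⁻¹ᵁ U ≤ ⊤) (τ.hom.app ⊤ (ProjUP.pullSec e _ (ProjUP.coord n R j)))) :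
    UnivOn P U := by
  intro T Q hQ
  haveI := Q.epi
  let O1 := Twist.twistProjSpace n R 1
  let w : Fin (n + 1) → Γ(Q.L, ⊤) := fun j => res Q.L hQ.ge (Q.s.app (Q.g ⁻¹ᵁ U) (puSec Q.g (bas φ j)))
  have hw : ∀ j, res Q.L le_top (w j) = Q.s.app (Q.g ⁻¹ᵁ U) (puSec Q.g (bas φ j)) := fun j => by
    rw [AmpleLib.res_res, AmpleLib.res_refl]
  have hgen : ProjUP.GeneratedBy Q.L w := fun x => by
    have hx : Q.g x ∈ U := show x ∈ Q.g ⁻¹ᵁ U from hQ.ge trivial
    obtain ⟨j, hj⟩ := CycPBLib.exists_genAt_eSec φ (q := Q.s) Q.inv (z := x) hx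
    refine TwistLib.span_of_genAt Q.L w x (k := j) ?_
    exact (AmpleLib.genAt_res hQ.ge (CycPBLib.eSec φ Q.s j) trivial).2 hj
  have hr0 : Set.range Q.g ⊆ Set.range i := by
    rintro _ ⟨x, rfl⟩
    exact hi.ge (show x ∈ Q.g ⁻¹ᵁ U from hQ.ge trivial)
  let u : T ⟶ Spec (CommRingCat.of R) := IsOpenImmersion.lift i Q.g hr0
  obtain ⟨r, hr, τr, hτr⟩ := Groth.Agent.S3572.result (R := R) n u Q.L Q.inv w hgen
  have hval : ∀ (k : T ⟶ D) (h : k ≫ P.g = Q.g) (ε : pb k P.L ≅ Q.L) (j : Fin (n + 1)),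
      (compQ P.s h ε.hom).app (Q.g ⁻¹ᵁ U) (puSec Q.g (bas φ j)) =
        res Q.L le_top (ε.hom.app ⊤ (puSec k (τ.hom.app ⊤ (ProjUP.pullSec e _ (ProjUP.coord n R j))))) := by
    intro k h ε j
    rw [ProjBunLib.compQ_app, hv j, TwistLib.puSec_res]
    refine (congrArg (Q.L.presheaf.map _) (QCohLib.app_map ε.hom (homOfLE (k.preimage_mono le_top)) _)).trans ?_
    exact QCohLib.map_map' Q.L _ _ _
  have htr : ∀ (k : T ⟶ D) (ε : pb k P.L ≅ Q.L) (j : Fin (n + 1)),
      (((Scheme.Modules.pullbackComp k e).app O1).symm ≪≫ (Scheme.Modules.pullback k).mapIso τ ≪≫ ε).hom.app ⊤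
        (ProjUP.pullSec (k ≫ e) O1 (ProjUP.coord n R j)) =
        ε.hom.app ⊤ (puSec k (τ.hom.app ⊤ (ProjUP.pullSec e _ (ProjUP.coord n R j)))) := by
    intro k ε j
    show ε.hom.app ⊤ (((Scheme.Modules.pullback k).map τ.hom).app ⊤
      (((Scheme.Modules.pullbackComp k e).inv.app O1).app ⊤ (ProjUP.pullSec (k ≫ e) O1 (ProjUP.coord n R j)))) = _
    refine congrArg (ε.hom.app ⊤) ?_
    refine (congrArg (((Scheme.Modules.pullback k).map τ.hom).app ⊤)
      (CohCmpLib.pullbackComp_inv_puSec k e O1 (U := ⊤) (ProjUP.coord n R j))).trans ?_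
    exact KFlatLib.puSec_natural k τ.hom (puSec e (U := ⊤) (ProjUP.coord n R j))
  let k₀ : T ⟶ D := r ≫ inv e
  have hk₀ : k₀ ≫ e = r := by simp [k₀]
  have hk₀g : k₀ ≫ P.g = Q.g := by
    rw [hg, ← Category.assoc, hk₀, ← Category.assoc, hr]
    exact IsOpenImmersion.lift_fac _ _ _
  refine ⟨k₀, ?_, fun k hk => ?_⟩
  · let τ₀ : pb (k₀ ≫ e) O1 ≅ Q.L := (Scheme.Modules.pullbackCongr hk₀).app O1 ≪≫ τr
    have hτ₀ : ∀ j, τ₀.hom.app ⊤ (ProjUP.pullSec (k₀ ≫ e) O1 (ProjUP.coord n R j)) = w j := by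
      revert τ₀
      generalize k₀ ≫ e = r' at hk₀
      subst hk₀
      intro τ₀ j
      refine Eq.trans ?_ (hτr j)
      simp [τ₀, Scheme.Modules.pullbackCongr]
      rfl
    let ε : pb k₀ P.L ≅ Q.L :=
      (Scheme.Modules.pullback k₀).mapIso τ.symm ≪≫ (Scheme.Modules.pullbackComp k₀ e).app O1 ≪≫ τ₀
    have hε : ((Scheme.Modules.pullbackComp k₀ e).app O1).symm ≪≫ (Scheme.Modules.pullback k₀).mapIso τ ≪≫ ε = τ₀ := by
      ext1
      simp only [ε, Iso.trans_hom, Iso.symm_hom, Functor.mapIso_hom, Functor.mapIso_inv, Category.assoc,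
        ← Functor.map_comp_assoc, Iso.hom_inv_id, CategoryTheory.Functor.map_id, Category.id_comp,
        Iso.inv_hom_id_assoc]
    refine (Pt.rel_map_iff k₀ P Q).2 ⟨hk₀g, ε, CycPBLib.hom_ext_bas φ Q.g hQ _ _ fun j => ?_⟩
    rw [hval k₀ hk₀g ε j, ← htr k₀ ε j, hε, hτ₀ j, hw j]
  · obtain ⟨h, ε, hε⟩ := (Pt.rel_map_iff k P Q).1 hk
    have h1 : k ≫ e ≫ CohB1.ProjSpace.toSpec n R = r ≫ CohB1.ProjSpace.toSpec n R := by
      rw [← cancel_mono i, Category.assoc, Category.assoc, ← hg, h, hr]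
      exact (IsOpenImmersion.lift_fac _ _ _).symm
    have h2 : k ≫ e = r := by
      refine Groth.Agent.S3573.result (R := R) n (k ≫ e) r (by rw [Category.assoc]; exact h1)
        ((((Scheme.Modules.pullbackComp k e).app O1).symm ≪≫ (Scheme.Modules.pullback k).mapIso τ ≪≫ ε) ≪≫ τr.symm)
        fun j => ?_
      have h3 : ε.hom.app ⊤ (puSec k (τ.hom.app ⊤ (ProjUP.pullSec e _ (ProjUP.coord n R j)))) = w j := by
        have h4 := hval k h ε j
        rw [hε] at h4
        have h5 := congrArg (res Q.L hQ.ge) h4.symm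
        rw [AmpleLib.res_res, AmpleLib.res_refl] at h5
        exact h5
      show τr.inv.app ⊤ ((((Scheme.Modules.pullbackComp k e).app O1).symm ≪≫
        (Scheme.Modules.pullback k).mapIso τ ≪≫ ε).hom.app ⊤ _) = _
      rw [htr k ε j, h3, ← hτr j]
      exact congr($(τr.hom_inv_id).app ⊤ _)
    show k = r ≫ inv e
    rw [← h2, Category.assoc, IsIso.hom_inv_id, Category.comp_id]

end ProjRecLib

end
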